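import Cfsg.Agent.Mrg.Omega.NOThreeL.NF.Line
import Cfsg.Agent.Mrg.Omega.NOThreeL.Star
import Cfsg.Agent.Mrg.Omega.NOThreeL.Merge
import Cfsg.Agent.Mrg.Omega.FFBr.Final
import Cfsg.Agent.Mrg.Omega.FFBr.Main
import Cfsg.Agent.Mrg.Omega.NOThreeL.NF.Seven
import Cfsg.Agent.Mrg.Omega.NOThreeL.RTools.Two
import Cfsg.Agent.Mrg.Omega.NOThreeL.NF.Sym
import Cfsg.Agent.Mrg.Omega.NO3b.Union.Line
import Cfsg.Agent.Mrg.Omega.NOThreeL.NF.Nat
import Cfsg.Agent.Mrg.Omega.NO3b.Exit.LocalExit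
import Cfsg.Agent.Mrg.Omega.NO3b.Union.Asm

-- merged: Cfsg.Agent.Mrg.Omega.NOThreeL.NF.Conj
section

/-!
# THEOREM NF (#17343), (5), (6)

`V = VS S`, `A ≤ S` optimal on `V`, `P ∈ P*(S)` with `[V_P, A] ≠ 1`.

* `JO S` : the product of all optimal `B ≤ S`; `Mv.mv` : all of them move `V_P`;
* `Mv.conj` : **(6)** `z ∈ Z#`, `y ∈ N_G(V)`, `z^y ∈ V_P` implies `z^y ∈ z^P`.
-/

set_option autoImplicit false

namespace Cfsg.Agent.Omega.NOThreeL.NF

open Subgroup Cfsg
open Cfsg.Agent.ZN Cfsg.Agent.ZN.ChoiceBase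
open Cfsg.Agent.Omega.MinPar Cfsg.Agent.Omega.Frame Cfsg.Agent.Omega.FrameNOFF
open Cfsg.Agent.Omega.NO3b.EZero (NotFF cent_symm cj_cent cj_norm)
open Cfsg.Agent.Omega.FFThm (ElemM OffM NoOverM ConclM)
open Cfsg.Agent.Omega.NOThreeL.Star
open Cfsg.Agent.MinSimple.VModule (mem_zc zc_le zc_sq zc_comm le_centralizer_zc zc_le_zl zl_le
  le_normalizer_zl normalizer_le_normalizer_zc le_normalizer_o2 o2_isPGroup o2_le)
open scoped commutatorElement

universe u

variable {G : Type u} [Group G]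

/-- The product of all optimal `B ≤ S`. -/
def JO (S : Subgroup G) : Subgroup G := ⨆ B : {B : Subgroup G // Opt (VS S) B ∧ B ≤ S}, (B : Subgroup G)

theorem le_JO {S B : Subgroup G} (hB : Opt (VS S) B) (hBS : B ≤ S) : B ≤ JO S :=
  le_iSup (fun B : {B : Subgroup G // Opt (VS S) B ∧ B ≤ S} => (B : Subgroup G)) ⟨B, hB, hBS⟩

theorem JO_le {S C : Subgroup G} (h : ∀ B, Opt (VS S) B → B ≤ S → B ≤ C) : JO S ≤ C :=
  iSup_le fun B => h B B.2.1 B.2.2

theorem JO_le_self (S : Subgroup G) : JO S ≤ S := JO_le fun _ _ h => h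

variable [Finite G] {S : Sylow 2 G} {P P' A B : Subgroup G}

section

variable (h : Sit S) (m : Mv S P A)
include h m

theorem Mv.mv (hB : Opt (VS (S : Subgroup G)) B) (hBS : B ≤ (S : Subgroup G)) : Mv S P B :=
  ⟨m.par, hBS, hB, m.ne_cent h hB hBS⟩

/-- `[V, B]` is a point for every optimal `B ≤ S` -/
theorem Mv.mem_pts (hB : Opt (VS (S : Subgroup G)) B) (hBS : B ≤ (S : Subgroup G)) :
    ⁅VS (S : Subgroup G), B⁆ ∈ pts (zl (S : Subgroup G) P) S A := by
  have m' := m.mv h hB hBS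
  obtain ⟨s, hs, he⟩ := (m.rp h).conj A B (m.minOff h) (m'.minOff h)
  refine ⟨s, hs, ?_⟩
  rw [m'.comm_eq h, he]

/-- every point is `[V, B]` for an optimal `B ≤ S` -/
theorem Mv.exists_of_mem_pts {R : Subgroup G} (hR : R ∈ pts (zl (S : Subgroup G) P) S A) :
    ∃ B, Opt (VS (S : Subgroup G)) B ∧ B ≤ (S : Subgroup G) ∧ R = ⁅VS (S : Subgroup G), B⁆ := by
  obtain ⟨s, hs, rfl⟩ := hR
  have hsV := h.S_norm hs
  refine ⟨cj s A, m.opt.cj hsV, ?_, ?_⟩
  · have h1 := cj_mono s m.le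
    rwa [cj_eq_of_mem_normalizer (le_normalizer hs)] at h1
  · rw [← m.comm_eq h]
    conv_rhs => rw [← cj_eq_of_mem_normalizer hsV]
    exact Subgroup.map_commutator _ _ _

theorem Mv.sup_pts_le : sSup (pts (zl (S : Subgroup G) P) S A) ≤ centralizer (JO (S : Subgroup G) : Set G) := by
  refine sSup_le ?_
  rintro _ ⟨s, hs, rfl⟩
  refine cent_symm (JO_le fun B hB hBS => cent_symm ?_)
  exact (m.rp h).cent A B (m.minOff h) ((m.mv h hB hBS).minOff h) s hs

/-- an element of `N_G(V)` which normalises `JO` permutes the points -/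
theorem Mv.cj_mem_pts {u : G} (huV : u ∈ normalizer (VS (S : Subgroup G) : Set G))
    (hu : cj u (JO (S : Subgroup G)) ≤ JO (S : Subgroup G)) {R : Subgroup G}
    (hR : R ∈ pts (zl (S : Subgroup G) P) S A) : cj u R ∈ pts (zl (S : Subgroup G) P) S A := by
  obtain ⟨B, hB, hBS, rfl⟩ := m.exists_of_mem_pts h hR
  have h1 : cj u B ≤ (S : Subgroup G) :=
    ((cj_mono u (le_JO hB hBS)).trans hu).trans (JO_le_self _)
  have h2 : cj u ⁅VS (S : Subgroup G), B⁆ = ⁅VS (S : Subgroup G), cj u B⁆ := by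
    conv_rhs => rw [← cj_eq_of_mem_normalizer huV]
    exact Subgroup.map_commutator _ _ _
  rw [h2]
  exact m.mem_pts h (hB.cj huV) h1

omit m in
theorem cj_JO_eq {u : G} (huV : u ∈ normalizer (VS (S : Subgroup G) : Set G))
    (hu : cj u (JO (S : Subgroup G)) ≤ (S : Subgroup G)) : cj u (JO (S : Subgroup G)) = JO (S : Subgroup G) := by
  have h1 : cj u (JO (S : Subgroup G)) ≤ JO (S : Subgroup G) := by
    rw [cj_le_iff]
    refine JO_le fun B hB hBS => ?_
    rw [← cj_le_iff]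
    exact le_JO (hB.cj huV) ((cj_mono u (le_JO hB hBS)).trans hu)
  exact Subgroup.eq_of_le_of_card_ge h1 (card_cj u _).ge

/-- **(6)** -/
theorem Mv.conj {z y : G} (hz : z ∈ zc (S : Subgroup G)) (hz1 : z ≠ 1)
    (hy : y ∈ normalizer (VS (S : Subgroup G) : Set G)) (hv : y * z * y⁻¹ ∈ zl (S : Subgroup G) P) :
    ∃ p ∈ P, y * z * y⁻¹ = p * z * p⁻¹ := by
  obtain ⟨p, hp, hpR⟩ := (m.rp h).toR A (m.minOff h) _ hv
  have hpV := par_norm m.par hp
  set x := p * y with hx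
  have hxV : x ∈ normalizer (VS (S : Subgroup G) : Set G) := mul_mem hpV hy
  have hxz : x * z * x⁻¹ ∈ sSup (pts (zl (S : Subgroup G) P) S A) := by
    have e : x * z * x⁻¹ = p * (y * z * y⁻¹) * p⁻¹ := by rw [hx]; group
    rwa [e]
  -- `JO^{x⁻¹} ≤ C(z)`
  set K := normalizer (VS (S : Subgroup G) : Set G) ⊓ centralizer ({z} : Set G) with hK
  have hSK : (S : Subgroup G) ≤ K := by
    refine le_inf h.S_norm fun s hs => ?_
    rw [mem_centralizer_singleton_iff]
    exact (Cfsg.Agent.MinSimple.VModule.mem_zc.1 hz).2.1 s hs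
  have hJK : cj x⁻¹ (JO (S : Subgroup G)) ≤ K := by
    refine le_inf ?_ ?_
    · have h1 := cj_mono x⁻¹ ((JO_le_self (S : Subgroup G)).trans h.S_norm)
      rwa [cj_eq_of_mem_normalizer (le_normalizer (inv_mem hxV))] at h1
    · rintro _ ⟨j, hj, rfl⟩
      change x⁻¹ * j * x⁻¹⁻¹ ∈ _
      rw [mem_centralizer_singleton_iff]
      have h1 := mem_centralizer_iff.1 (m.sup_pts_le h hxz) j hj
      have e1 : x⁻¹ * j * x⁻¹⁻¹ * z = x⁻¹ * (j * (x * z * x⁻¹)) * x := by group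
      have e2 : z * (x⁻¹ * j * x⁻¹⁻¹) = x⁻¹ * ((x * z * x⁻¹) * j) * x := by group
      rw [e1, e2, h1]
  obtain ⟨n, hn, hnS⟩ := FFThm.exists_conj_le S hSK (isPGroup_cj x⁻¹ (S.isPGroup'.to_le (JO_le_self _))) hJK
  rw [cj_cj] at hnS
  set g := n * x⁻¹ with hg
  have hgV : g ∈ normalizer (VS (S : Subgroup G) : Set G) := mul_mem hn.1 (inv_mem hxV)
  have hgJ := cj_JO_eq h hgV hnS
  have hgJ' : cj g⁻¹ (JO (S : Subgroup G)) = JO (S : Subgroup G) := by
    conv_lhs => rw [← hgJ]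
    exact cj_inv_cj _ _
  have hnz : n * z = z * n := mem_centralizer_singleton_iff.1 hn.2
  have hgz : g⁻¹ * z * g = x * z * x⁻¹ := by
    have e : g⁻¹ * z * g = x * (n⁻¹ * (z * n)) * x⁻¹ := by rw [hg]; group
    rw [e, ← hnz]; group
  have hzf := (m.rp h).zfull A (m.minOff h) z hz hz1
  obtain ⟨p', hp', he⟩ := (m.rp h).full A (m.minOff h) z hz hz1 _ hxz (by
    intro r hr hcon
    have h1 := m.cj_mem_pts h hgV hgJ.le hr
    apply hzf.2 _ h1
    rw [← hgz] at hcon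
    have h2 : sSup (pts (zl (S : Subgroup G) P) (S : Subgroup G) A \ {r}) ≤
        cj g⁻¹ (sSup (pts (zl (S : Subgroup G) P) (S : Subgroup G) A \ {cj g r})) := by
      refine sSup_le fun t ht => ?_
      have h3 : cj g t ≤ sSup (pts (zl (S : Subgroup G) P) (S : Subgroup G) A \ {cj g r}) := by
        refine le_sSup ⟨m.cj_mem_pts h hgV hgJ.le ht.1, fun h4 => ht.2 ?_⟩
        have h5 := congrArg (cj g⁻¹) h4
        rwa [cj_inv_cj, cj_inv_cj] at h5
      have h4 := cj_mono g⁻¹ h3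
      rwa [cj_inv_cj] at h4
    have h3 := mem_cj.1 (h2 hcon)
    have e : g⁻¹⁻¹ * (g⁻¹ * z * g) * g⁻¹ = z := by group
    rwa [e] at h3)
  refine ⟨p⁻¹ * p', mul_mem (inv_mem hp) hp', ?_⟩
  have e : y * z * y⁻¹ = p⁻¹ * (x * z * x⁻¹) * p := by rw [hx]; group
  rw [e, he]; group

end

end Cfsg.Agent.Omega.NOThreeL.NF

end

-- merged: Cfsg.Agent.Mrg.Omega.NOThreeL.StarEnd
section

section


/-!
# NO-3L with `|Z| = 2` and FF lines of order four: `V*` is not FF (#16235 (2), helper999)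

`S` a Sylow 2-subgroup, `Z = Ω₁(Z(S))` of order 2, `Y = YS S = ⟨P*(S)⟩`, `V* = zl S Y`.

* `le_sup_CZ` : `N_G(V_P) ≤ ⟨P, C_G(Z)⟩` if `|V_P| = 4`;
* `exists_ne` : some `V_{P'}` differs from `V_P` (NO-3L);
* `notFF` : if `|V_P| = 4` for every `P ∈ P*(S)` with an offender on `V_P`, then `V*` is not FF.
-/

set_option autoImplicit false

namespace Cfsg.Agent.Omega.NOThreeL.StarEnd

open Subgroup Cfsg
open Cfsg.Agent.ZN hiding mem_zc le_normalizer_zl le_normalizer_o2
open Cfsg.Agent.ZN.ChoiceBase hiding mem_zc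
open Cfsg.Agent.Omega.MinPar Cfsg.Agent.Omega.Frame Cfsg.Agent.Omega.FrameNOFF
open Cfsg.Agent.Omega.Node.NO3L
open Cfsg.Agent.Omega.NO3b.EZero (NotFF cent_symm)
open Cfsg.Agent.Omega.FFThm (ElemM OffM NoOverM ConclM)
open Cfsg.Agent.Omega.NOThreeL.Star
open Cfsg.Agent.MinSimple.VModule (mem_zc zc_le zc_sq zc_comm le_centralizer_zc zc_le_zl zl_le
  le_normalizer_zl normalizer_le_normalizer_zc le_normalizer_o2 o2_isPGroup)
open Cfsg.Agent.Omega.NOThreeL.FourLine (mem_zpowers_iff)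
open Cfsg.Agent.Omega.NOThreeL.TRPlug (mem_of_card exists_swap)

universe u

theorem stmtM : FFThm.StmtM.{u} := FFBr.stmtM_of FFBr.aStmt

variable {G : Type u} [Group G] [Finite G] {S : Sylow 2 G}

omit [Finite G] in
theorem exists_gen (hZ : Nat.card (zc (S : Subgroup G)) = 2) :
    ∃ z : G, zc (S : Subgroup G) = zpowers z ∧ z ≠ 1 := by
  have hf : Finite (zc (S : Subgroup G)) := Nat.finite_of_card_ne_zero (by omega)
  have hn : Nontrivial (zc (S : Subgroup G)) := by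
    rw [← Finite.one_lt_card_iff_nontrivial, hZ]
    norm_num
  obtain ⟨z, hz⟩ := exists_ne (1 : zc (S : Subgroup G))
  have hz1 : (z : G) ≠ 1 := fun h => hz (Subtype.ext h)
  refine ⟨z, ?_, hz1⟩
  have h1 : zpowers (z : G) ≤ zc (S : Subgroup G) := zpowers_le.2 z.2
  refine (eq_of_le_of_card_ge h1 ?_).symm
  rw [hZ, Nat.card_zpowers]
  have h2 : orderOf (z : G) ≠ 1 := fun h => hz1 (orderOf_eq_one_iff.1 h)
  have h3 : 0 < orderOf (z : G) := by
    have := Subgroup.card_le_of_le h1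
    rw [Nat.card_zpowers, hZ] at this
    by_contra h0
    have h4 : orderOf (z : G) = 0 := by omega
    have h5 := zc_sq _ (z : G) z.2
    exact absurd (orderOf_dvd_of_pow_eq_one h5) (by rw [h4]; norm_num)
  omega

/-- `N_G(V_P) ≤ ⟨P, C_G(Z)⟩` for `|V_P| = 4`. -/
theorem normalizer_le (hG : IsCharacteristicTwoType G) {z : G} (hz : zc (S : Subgroup G) = zpowers z)
    (hz1 : z ≠ 1) {P : Subgroup G} (hP : IsParS (S : Subgroup G) P)
    (hc : Nat.card (zl (S : Subgroup G) P) = 4) (hsq : ∀ x ∈ zl (S : Subgroup G) P, x * x = 1) :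
    normalizer (zl (S : Subgroup G) P : Set G) ≤ P ⊔ CZ (S : Subgroup G) := by
  intro g hg
  have hzc : z ∈ zc (S : Subgroup G) := by rw [hz]; exact mem_zpowers z
  have hzF : z ∈ zl (S : Subgroup G) P := zc_le_zl _ _ hzc
  have hcz : ∀ c : G, c * z * c⁻¹ = z → c ∈ CZ (S : Subgroup G) := by
    intro c hcz
    change c ∈ centralizer ((zc (S : Subgroup G) : Subgroup G) : Set G)
    rw [hz]
    rw [mul_inv_eq_iff_eq_mul] at hcz
    rw [mem_centralizer_iff]
    intro x hx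
    rcases (mem_zpowers_iff (hsq z hzF)).1 hx with rfl | rfl
    · rw [one_mul, mul_one]
    · exact hcz.symm
  by_cases h1 : g * z * g⁻¹ = z
  · exact (le_sup_right : CZ (S : Subgroup G) ≤ _) (hcz g h1)
  have h2 : g * z * g⁻¹ ∈ zl (S : Subgroup G) P := (mem_normalizer_iff.1 hg z).1 hzF
  have h3 : g * z * g⁻¹ ≠ 1 := fun h => hz1 (conj_eq_one_iff.1 h)
  obtain ⟨p, hp, hp1, -, -⟩ := exists_swap hG hz hz1 hP hc hsq h2 h3 h1
  have h4 : p⁻¹ * g ∈ CZ (S : Subgroup G) := by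
    apply hcz
    calc p⁻¹ * g * z * (p⁻¹ * g)⁻¹ = p⁻¹ * (g * z * g⁻¹) * p := by group
      _ = z := by rw [← hp1]; group
  have h5 : g = p * (p⁻¹ * g) := by group
  rw [h5]
  exact mul_mem ((le_sup_left : P ≤ _) hp) ((le_sup_right : CZ (S : Subgroup G) ≤ _) h4)

/-- In NO-3L with `|Z| = 2`, `|V_P| = 4`: some `V_{P'}` is different from `V_P`. -/
theorem exists_ne_zl (h : Ctx G) (hF : Full (S : Subgroup G)) (D : Data (S : Subgroup G)) {z : G}
    (hz : zc (S : Subgroup G) = zpowers z) (hz1 : z ≠ 1) {P : Subgroup G} (hP : IsParS (S : Subgroup G) P)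
    (hc : Nat.card (zl (S : Subgroup G) P) = 4) (hsq : ∀ x ∈ zl (S : Subgroup G) P, x * x = 1) :
    ∃ P' : Subgroup G, IsParS (S : Subgroup G) P' ∧ zl (S : Subgroup G) P' ≠ zl (S : Subgroup G) P := by
  by_contra hcon
  push Not at hcon
  refine (D.loc P hP).loc.o2_ne (eq_bot_of_norm h S hF (o2_isPGroup _) (fun P' hP' => ?_) ?_)
  · refine le_trans ?_ (le_normalizer_o2 _)
    have h1 := le_normalizer_zl (S : Subgroup G) P'
    rw [hcon P' hP'] at h1
    exact h1.trans (normalizer_le h.char2 hz hz1 hP hc hsq)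
  · exact (le_sup_right : CZ (S : Subgroup G) ≤ P ⊔ CZ (S : Subgroup G)).trans (le_normalizer_o2 _)

/-- **`V*` is not FF** (#16235 (2)). -/
theorem notFF (h : Ctx G) (hF : Full (S : Subgroup G)) (D : Data (S : Subgroup G))
    (hZ : Nat.card (zc (S : Subgroup G)) = 2)
    (h4 : ∀ P : Subgroup G, IsParS (S : Subgroup G) P → (∃ A : Subgroup G, A ≤ P ∧ OffM (zl (S : Subgroup G) P) A) →
      Nat.card (zl (S : Subgroup G) P) = 4) :
    NotFF (zl (S : Subgroup G) (YS (S : Subgroup G))) := by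
  by_contra hn
  have hG := h.char2
  set V := zl (S : Subgroup G) (YS (S : Subgroup G)) with hV
  have hSY : (S : Subgroup G) ≤ YS (S : Subgroup G) := S_le_YS h hF
  have hVc : V ≤ centralizer (V : Set G) := zl_comm hG D.noff
  have hYV : YS (S : Subgroup G) ≤ normalizer (V : Set G) := le_normalizer_zl _ _
  have hVsq : ∀ u ∈ V, u * u = 1 := fun u hu => by
    have := zl_sq hG D.noff u hu
    rwa [pow_two] at this
  obtain ⟨z, hz, hz1⟩ := exists_gen hZ
  obtain ⟨P, A, hP, hAS, hopt, hoff, hcen, hsup, -⟩ := exists_exact stmtM hG D.noff hV hSY hn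
  have hcard := h4 P hP ⟨A, hAS.trans hP.le, hoff⟩
  have hPV : zl (S : Subgroup G) P ≤ V := zl_mono _ (le_YS hP)
  have hzc : z ∈ zc (S : Subgroup G) := by rw [hz]; exact mem_zpowers z
  have hzF : z ∈ zl (S : Subgroup G) P := zc_le_zl _ _ hzc
  have hsq : ∀ x ∈ zl (S : Subgroup G) P, x * x = 1 := fun x hx => hVsq x (hPV hx)
  have hSz : ∀ s ∈ (S : Subgroup G), s * z = z * s := fun s hs => (mem_zc.1 hzc).2.1 s hs
  -- a transvection
  obtain ⟨t, htA, ht⟩ : ∃ t ∈ A, ¬ ∀ u ∈ zl (S : Subgroup G) P, t * u = u * t := by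
    by_contra hcon
    push Not at hcon
    exact hoff.ne fun a ha => mem_centralizer_iff.2 fun u hu => (hcon a ha u hu).symm
  have htS : t ∈ (S : Subgroup G) := hAS htA
  have htP : ∀ w ∈ zl (S : Subgroup G) P, t * w * t⁻¹ = w ∨ t * w * t⁻¹ = w * z := by
    intro w hw
    by_cases w1 : w = 1
    · left; rw [w1, mul_one, mul_inv_cancel]
    by_cases wz : w = z
    · left; rw [wz, hSz t htS, mul_inv_cancel_right]
    have h5 : t * w * t⁻¹ ∈ zl (S : Subgroup G) P :=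
      (mem_normalizer_iff.1 (le_normalizer_zl _ _ (hP.le htS)) w).1 hw
    rcases mem_of_card hcard hzF hw hsq hz1 w1 wz h5 with h6 | h6 | h6 | h6
    · exact absurd (conj_eq_one_iff.1 h6) w1
    · exfalso
      apply wz
      have h7 : t * w * t⁻¹ = t * z * t⁻¹ := by rw [h6, hSz t htS, mul_inv_cancel_right]
      exact mul_left_cancel (mul_right_cancel h7)
    · exact Or.inl h6
    · exact Or.inr h6
  have hcm : ∀ {x y : G}, x ∈ V → y ∈ V → x * y = y * x := fun hx hy =>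
    (mem_centralizer_iff.1 (hVc hx) _ hy).symm
  have htV : ∀ u ∈ V, t * u * t⁻¹ = u ∨ t * u * t⁻¹ = u * z := by
    intro u hu
    rw [hsup] at hu
    have hnorm : zl (S : Subgroup G) P ≤ normalizer ((V ⊓ centralizer (A : Set G) : Subgroup G) : Set G) :=
      ((hPV.trans hVc).trans (centralizer_le inf_le_left)).trans (centralizer_le_normalizer _)
    have hu' := hu
    rw [← SetLike.mem_coe, Subgroup.coe_mul_of_left_le_normalizer_right _ _ hnorm] at hu'
    obtain ⟨w, hw, c, hc, rfl⟩ := hu'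
    have hc' : c ∈ V ∧ c ∈ centralizer (A : Set G) := hc
    have hct : t * c * t⁻¹ = c := by
      rw [mem_centralizer_iff.1 hc'.2 t htA, mul_inv_cancel_right]
    have e : t * (w * c) * t⁻¹ = (t * w * t⁻¹) * (t * c * t⁻¹) := by group
    change t * (w * c) * t⁻¹ = w * c ∨ t * (w * c) * t⁻¹ = w * c * z
    rw [e, hct]
    rcases htP w hw with h5 | h5
    · left; rw [h5]
    · right
      rw [h5, mul_assoc, hcm (hPV hzF) hc'.1, ← mul_assoc]
  have dat : TRPlug.Dat S z P V (YS (S : Subgroup G)) :=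
    ⟨hz, hz1, hP, hcard, hSY, le_YS hP, hYV, hVsq, hPV hzF, t, hSY htS, ht, htV⟩
  obtain ⟨P', hP', hne⟩ := exists_ne_zl h hF D hz hz1 hP hcard hsq
  have hle : zl (S : Subgroup G) P ≤ zl (S : Subgroup G) P' := dat.zl_le_zl hG hP' (le_YS hP')
  have hne' : ¬ A ≤ centralizer (zl (S : Subgroup G) P' : Set G) := fun h0 =>
    hoff.ne (h0.trans (centralizer_le hle))
  have hoff' : OffM (zl (S : Subgroup G) P') A :=
    (hopt.exact (P := P') hVc (zl_mono _ (le_YS hP')) hne' (hAS.trans hP'.le) fun hoff =>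
      (stmtM G (S : Subgroup G) P' (MinSimple.EmptyTI.syl_of_le hP'.le) hP'.toIsMinPar
        (hP'.isLoc.char2 S hG) ⟨A, hAS.trans hP'.le, hoff⟩).1).1
  have hcard' := h4 P' hP' ⟨A, hAS.trans hP'.le, hoff'⟩
  exact hne (eq_of_le_of_card_ge hle (by rw [hcard, hcard'])).symm

end Cfsg.Agent.Omega.NOThreeL.StarEnd

end

section


/-!
# THEOREM NF (#17343): `RP S P` from the FF theorem

* `NatRP`, `SymRP` : the two cases of the FF theorem (`NF/Nat.lean`, `NF/Sym.lean`), as named Props;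
* `rp_of` : `RP S P` for every `P ∈ P*(S)` with an offender on `V_P`, if `C_Z(P) = 1`.
-/

set_option autoImplicit false

namespace Cfsg.Agent.Omega.NOThreeL.NF

open Subgroup Cfsg
open Cfsg.Agent.ZN
open Cfsg.Agent.Omega.MinPar Cfsg.Agent.Omega.Frame Cfsg.Agent.Omega.FrameNOFF
open Cfsg.Agent.Omega.FFThm (ElemM OffM NoOverM ConclM NatKM SymKM)
open Cfsg.Agent.Omega.FrameFF (cv)
open Cfsg.Agent.Omega.NOThreeL.Basic (DataZ)

universe u

/-- The natural case. -/
def NatRP : Prop :=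
  ∀ (G : Type u) [Group G] [Finite G], IsCharacteristicTwoType G → ∀ (S : Sylow 2 G) (P : Subgroup G),
    IsParS (S : Subgroup G) P → cv (S : Subgroup G) P = ⊥ → NoOverM (zl (S : Subgroup G) P) P →
      ∀ (F : Type) [Field F] [Finite F] [CharP F 2] (k : ℕ), 0 < k →
        NatKM F (S : Subgroup G) P (zl (S : Subgroup G) P) (cv (S : Subgroup G) P) k → RP (S : Subgroup G) P

/-- The symmetric case. -/
def SymRP : Prop :=
  ∀ (G : Type u) [Group G] [Finite G], IsCharacteristicTwoType G → ∀ (S : Sylow 2 G) (P : Subgroup G),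
    IsParS (S : Subgroup G) P → cv (S : Subgroup G) P = ⊥ → NoOverM (zl (S : Subgroup G) P) P →
      ∀ k m : ℕ, 0 < k → 2 ≤ m →
        SymKM (S : Subgroup G) P (zl (S : Subgroup G) P) (cv (S : Subgroup G) P) k m → RP (S : Subgroup G) P

/-- **`RP` from the two cases.** -/
theorem rp_of (hN : NatRP.{u}) (hS : SymRP.{u}) {G : Type u} [Group G] [Finite G] (h : Ctx G)
    {S : Sylow 2 G} (D : DataZ (S : Subgroup G)) {P : Subgroup G} (hP : IsParS (S : Subgroup G) P)
    (hoff : ∃ A : Subgroup G, A ≤ P ∧ OffM (zl (S : Subgroup G) P) A) : RP (S : Subgroup G) P := by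
  have hc := h.char2
  have hcv : cv (S : Subgroup G) P = ⊥ := D.cv_eq hc hP
  obtain ⟨hno, hcon⟩ := StarEnd.stmtM G (S : Subgroup G) P (MinSimple.EmptyTI.syl_of_le hP.le)
    hP.toIsMinPar (hP.isLoc.char2 S hc) hoff
  rcases hcon with ⟨F, _, _, _, k, hk, ⟨M⟩⟩ | ⟨k, m, hk, hm, ⟨M⟩⟩
  · exact hN G hc S P hP hcv hno F k hk M
  · exact hS G hc S P hP hcv hno k m hk hm M

end Cfsg.Agent.Omega.NOThreeL.NF

end

end

-- merged: Cfsg.Agent.Mrg.Omega.NOThreeL.NF.Main
section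

/-!
# THEOREM NF (#17343; THEOREM VF #16966): in NO-3L with `C_Z(P) = 1` for all `P ∈ P*(S)` the module
`V* = ⟨Ω₁(Z(S))^{⟨P*(S)⟩}⟩` is not FF

* `nf` : from the interface `RP S P` to the FF theorem, for all `P ∈ P*(S)` with an offender on `V_P`.
-/

set_option autoImplicit false

namespace Cfsg.Agent.Omega.NOThreeL.NF

open Subgroup Cfsg
open Cfsg.Agent.ZN Cfsg.Agent.ZN.ChoiceBase
open Cfsg.Agent.Omega.MinPar Cfsg.Agent.Omega.Frame Cfsg.Agent.Omega.FrameNOFF
open Cfsg.Agent.Omega.Node.NO3L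
open Cfsg.Agent.Omega.NOThreeL.Basic
open Cfsg.Agent.Omega.NO3b.EZero (NotFF cent_symm)
open Cfsg.Agent.Omega.FFThm (ElemM OffM NoOverM ConclM)
open Cfsg.Agent.Omega.NOThreeL.Star

universe u

variable {G : Type u} [Group G] [Finite G] {S : Sylow 2 G}

/-- **THEOREM NF.** -/
theorem nf (h : Ctx G) (hF : Full (S : Subgroup G)) (D : DataZ (S : Subgroup G))
    (hrp : ∀ P : Subgroup G, IsParS (S : Subgroup G) P →
      (∃ A : Subgroup G, A ≤ P ∧ OffM (zl (S : Subgroup G) P) A) → RP (S : Subgroup G) P) :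
    NotFF (zl (S : Subgroup G) (YS (S : Subgroup G))) := by
  by_contra hn
  have hSY : (S : Subgroup G) ≤ YS (S : Subgroup G) := S_le_YS h hF
  have hs : Sit S := {
    hc := h.char2
    hm := D.noff
    SY := hSY
    cz := D.cz
    no := fun P hP hA => (StarEnd.stmtM G (S : Subgroup G) P (MinSimple.EmptyTI.syl_of_le hP.le) hP.toIsMinPar
      (hP.isLoc.char2 S h.char2) hA).1
    rp := hrp }
  obtain ⟨P, A, hP, hAS, hopt, hoff, -, -, -⟩ := exists_exact StarEnd.stmtM h.char2 D.noff rfl hSY hn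
  have m : Mv S P A := ⟨hP, hAS, hopt, hoff.ne⟩
  refine false_of h hF D.toData hP fun P' hP' p' hp' => ?_
  obtain ⟨z, hz, hz1⟩ : ∃ z ∈ zc (S : Subgroup G), z ≠ 1 := by
    have h1 := MinSimple.Basic.zc_ne_bot S.isPGroup' (h.sylow_ne_bot S)
    obtain ⟨a, ha⟩ := Subgroup.ne_bot_iff_exists_ne_one.1 h1
    exact ⟨a, a.2, fun h0 => ha (Subtype.ext h0)⟩
  have hv : p' * z * p'⁻¹ ∈ zl (S : Subgroup G) P := m.le_line hs hP'
    ((mem_normalizer_iff.1 (MinSimple.VModule.le_normalizer_zl (S : Subgroup G) P' hp') z).1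
      (MinSimple.VModule.zc_le_zl _ _ hz))
  obtain ⟨p, hp, he⟩ := m.conj hs hz hz1 (par_norm hP' hp') hv
  refine ⟨p, hp, ?_⟩
  have h2 : p⁻¹ * p' ∈ centralizer ({z} : Set G) := by
    rw [mem_centralizer_singleton_iff]
    calc p⁻¹ * p' * z = p⁻¹ * (p' * z * p'⁻¹) * p' := by group
      _ = z * (p⁻¹ * p') := by rw [he]; group
  have h3 := RTools.le_normalizer S hz hz1 (fun P1 hP1 hz' => hz1 (by
    have h4 : z ∈ zc (S : Subgroup G) ⊓ centralizer (P1 : Set G) := ⟨hz, mem_centralizer_iff.2 fun x hx =>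
      mem_centralizer_singleton_iff.1 (hz' hx)⟩
    rwa [D.cz P1 hP1, mem_bot] at h4)) h2
  have h4 : cj (p⁻¹ * p') (zc (S : Subgroup G)) = zc (S : Subgroup G) := cj_eq_of_mem_normalizer h3
  have h5 := congrArg (cj p) h4
  rw [cj_cj] at h5
  rwa [mul_inv_cancel_left] at h5

end Cfsg.Agent.Omega.NOThreeL.NF

end

-- merged: Cfsg.Agent.Mrg.Omega.NOThreeL.NF.SymRp
section

/-!
# THEOREM NF: the interface `RP` for even-subset modules (#17343, helper863), conclusion

`rp_of_symKM` : `P ∈ L(S)`, `V_P` of type `S_{2^m+1}^k` (`SymKM`), `C_{V_P}(O²(P)) = 1` imply `RP S P`.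
`symRP : SymRP`.
-/

set_option autoImplicit false

namespace Cfsg.Agent.Omega.NOThreeL.NF.SymRP

open Subgroup Cfsg Cfsg.Agent.ZN Cfsg.Agent.ZN.ChoiceBase
open Cfsg.Agent.Omega.FFThm (ElemM OffM NoOverM ConclM SymK SymKM ActsSym)
open Cfsg.Agent.Omega.Half (Amb)
open Cfsg.Agent.Omega.Half.SymA
open Cfsg.Agent.Omega.MinPar (IsLoc)
open Cfsg.Agent.Omega.NOThreeL.FourLine (mem_zpowers_iff)
open scoped Classical commutatorElement

universe u

variable {G : Type u} [Group G]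

section ad

variable [Finite G] {S : Sylow 2 G} {P V : Subgroup G} {k m : ℕ} {M : SymK (S : Subgroup G) P V ⊥ k m}
  (hA : Amb (S : Subgroup G) P V) {A : Subgroup G} {p q : Pt k m}
include hA

omit [Finite G] in
theorem card_zp {c : G} (hc : IsC M c p q) (hpq : p ≠ q) : Nat.card (zpowers c) = 2 := by
  rw [Nat.card_zpowers]
  refine orderOf_eq_prime ?_ (hc.ne_one hpq)
  rw [pow_two]
  exact sq_one hA hc.1

/-- the matching of the nonzero points -/
theorem exists_mt (hm : 1 ≤ m) (h : Sw M p q) : ∃ μ : Pt k m → Pt k m, SymG.Mt μ ∧ ∀ a, a.2 ≠ 0 → Sw M a (μ a) := by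
  have h1 : ∀ a : Pt k m, ∃ b : Pt k m, (a.2 ≠ 0 → Sw M a b) ∧ (a.2 = 0 → b = a) := by
    intro a
    by_cases ha : a.2 = 0
    · exact ⟨a, fun h0 => absurd ha h0, fun _ => rfl⟩
    · obtain ⟨b, hb⟩ := exists_sw hA hm h ha
      exact ⟨b, fun _ => hb, fun h0 => absurd h0 ha⟩
  choose μ h1 h2 using h1
  refine ⟨μ, ⟨fun a => ?_, fun a ha => ?_, fun a ha => ?_, fun a ha => ?_⟩, h1⟩
  · by_cases ha : a.2 = 0
    · rw [h2 a ha]
    · exact (h1 a ha).2.1.symm
  · exact (h1 a ha).symm.nz hA hm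
  · exact (h1 a ha).1.symm
  · have h3 := (h1 a ha).symm
    exact (h1 _ (h3.nz hA hm)).uniq hA S.isPGroup' hm h3

/-- the number of points -/
theorem AD.ncard (hm : 1 ≤ m) (h : AD M A p q) : 2 * (pts V (S : Subgroup G) A).ncard = 2 ^ m * k := by
  obtain ⟨μ, hμ, hsw⟩ := exists_mt hA hm h.sw
  have h1 : ∀ a : Pt k m, ∃ c, a.2 ≠ 0 → IsC M c a (μ a) := by
    intro a
    by_cases ha : a.2 = 0
    · exact ⟨1, fun h0 => absurd ha h0⟩
    · obtain ⟨c, hc⟩ := exists_isC (M := M) (hsw a ha).2.1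
      exact ⟨c, fun _ => hc⟩
  choose c hc using h1
  let N : Finset (Pt k m) := Finset.univ.filter fun a => a.2 ≠ 0
  have hN : ∀ a, a ∈ N ↔ a.2 ≠ 0 := fun a => by simp [N]
  let g : Pt k m → Subgroup G := fun a => zpowers (c a)
  have hpts : pts V (S : Subgroup G) A = ↑(N.image g) := by
    ext r
    rw [h.mem_pts hA hm, Finset.coe_image]
    constructor
    · rintro ⟨a, b, d, hab, hd, rfl⟩
      have ha := hab.nz hA hm
      refine ⟨a, (hN a).2 ha, ?_⟩
      have h2 := hab.uniq hA S.isPGroup' hm (hsw a ha)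
      subst h2
      change zpowers (c a) = zpowers d
      rw [(hc a ha).eq hd]
    · rintro ⟨a, ha, rfl⟩
      have ha := (hN a).1 ha
      exact ⟨a, μ a, c a, hsw a ha, hc a ha, rfl⟩
  have hfib : ∀ r ∈ N.image g, (N.filter fun a => g a = r).card = 2 := by
    intro r hr
    obtain ⟨a, ha, rfl⟩ := Finset.mem_image.1 hr
    have ha' := (hN a).1 ha
    have h2 : (N.filter fun b => g b = g a) = {a, μ a} := by
      ext b
      rw [Finset.mem_filter, hN, Finset.mem_insert, Finset.mem_singleton]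
      constructor
      · rintro ⟨hb, hgb⟩
        have h3 : c b ∈ zpowers (c a) := by
          rw [show zpowers (c a) = g a from rfl, ← hgb]
          exact mem_zpowers _
        rcases (mem_zpowers_iff (sq_one hA (hc a ha').1)).1 h3 with h4 | h4
        · exact absurd h4 ((hc b hb).ne_one (hsw b hb).1)
        · have h5 := (hc b hb).left (hsw b hb).1
          rw [h4] at h5
          by_contra hcon
          push Not at hcon
          rw [(hc a ha').zero hcon.1 hcon.2] at h5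
          exact zero_ne_one h5
      · rintro (rfl | rfl)
        · exact ⟨ha', rfl⟩
        · have h3 := hμ.nz a ha'
          refine ⟨h3, ?_⟩
          change zpowers (c (μ a)) = zpowers (c a)
          have h4 := hc (μ a) h3
          rw [hμ.inv a ha'] at h4
          rw [h4.symm.eq (hc a ha')]
    rw [h2, Finset.card_pair (hμ.ne a ha').symm]
  have hcard : N.card = 2 ^ m * k := by
    have h3 : N = Finset.univ ×ˢ (Finset.univ.filter fun x : Fin (2 ^ m + 1) => x ≠ 0) := by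
      ext a
      simp [N]
    rw [h3, Finset.card_product, Finset.card_univ, Fintype.card_fin, Finset.filter_ne', Finset.card_erase_of_mem
      (Finset.mem_univ _), Finset.card_univ, Fintype.card_fin, Nat.add_sub_cancel, mul_comm]
  rw [hpts, Set.ncard_coe_finset, ← hcard, Finset.card_eq_sum_card_image g N, Finset.sum_congr rfl hfib,
    Finset.sum_const, smul_eq_mul, mul_comm]

end ad

/-- **(Y)**: the interface `RP` for even-subset modules. -/
theorem rp_of_symKM {G : Type u} [Group G] [Finite G] (hG : IsCharacteristicTwoType G) {S : Sylow 2 G}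
    {P : Subgroup G} (hP : IsLoc (S : Subgroup G) P) (hD : FrameFF.cv (S : Subgroup G) P = ⊥) {k m : ℕ} (hm : 1 ≤ m)
    (M : SymKM (S : Subgroup G) P (zl (S : Subgroup G) P) (FrameFF.cv (S : Subgroup G) P) k m) :
    RP (S : Subgroup G) P := by
  rw [hD] at M
  have hA : Amb (S : Subgroup G) P (zl (S : Subgroup G) P) := Half.amb_of_loc hG S hP
  refine ⟨?_, ?_, ?_, ?_, ?_, ?_, ?_, ?_, ?_, ?_⟩
  · intro A h
    obtain ⟨⟨p, q, had⟩, h2⟩ := exists_ad M hA hm h
    obtain ⟨c, hc⟩ := exists_isC (M := M.toSymK) had.sw.2.1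
    rw [had.comm_eq hA hm hc, h2, card_zp hA hc had.sw.1]
  · intro A h v hv hvA d hd
    obtain ⟨⟨p, q, had⟩, h2⟩ := exists_ad M hA hm h
    obtain ⟨c, hc⟩ := exists_isC (M := M.toSymK) had.sw.2.1
    rw [had.comm_eq hA hm hc] at hd
    rcases (mem_zpowers_iff (sq_one hA hc.1)).1 hd with rfl | rfl
    · exact ⟨1, one_mem _, by group⟩
    · obtain ⟨b, hb, hπ⟩ := had.ex
      refine ⟨b, hb, ?_⟩
      have hbP := hA.TH (had.le hb)
      have hne : E M.toSymK v p ≠ E M.toSymK v q := by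
        intro h0
        apply hvA
        rw [mem_centralizer_iff]
        intro a ha
        rcases had.all a ha with h1 | h1
        · exact (mem_centralizer_iff.1 h1 v hv).symm
        · have h3 := comm_of_eq hA (hA.TH (had.le ha)) h1 hv h0
          rwa [mul_inv_eq_iff_eq_mul] at h3
      rcases commutator_eq hA had.sw.1 hbP hπ hv hc with h3 | h3
      · exfalso
        apply hne
        rw [commutatorElement_eq_one_iff_mul_comm] at h3
        exact eq_of_comm hπ hv (by rw [← h3, mul_inv_cancel_right])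
      · have h4 : b * v * b⁻¹ * v⁻¹ = ⁅v, b⁆⁻¹ := by rw [commutatorElement_def]; group
        rw [h4, h3, inv_eq_iff_mul_eq_one]
        exact sq_one hA hc.1
  · intro A B h h' s hs
    obtain ⟨⟨p, q, had⟩, h2⟩ := exists_ad M hA hm h
    obtain ⟨⟨p', q', had'⟩, h2'⟩ := exists_ad M hA hm h'
    intro x hx
    have h1 : x ∈ sSup (pts (zl (S : Subgroup G) P) (S : Subgroup G) A) := le_sSup (show cj s _ ∈ pts _ _ _ from ⟨s, hs, rfl⟩) hx
    obtain ⟨hxV, h3, -⟩ := (had.mem_R hA hm).1 h1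
    rw [mem_centralizer_iff]
    intro b hb
    rcases had'.all b hb with h4 | h4
    · exact (mem_centralizer_iff.1 h4 x hxV).symm
    · have h5 := comm_of_eq hA (hA.TH (had'.le hb)) h4 hxV (h3 p' q' had'.sw)
      rwa [mul_inv_eq_iff_eq_mul] at h5
  · intro A B h h'
    obtain ⟨⟨p, q, had⟩, h2⟩ := exists_ad M hA hm h
    obtain ⟨⟨p', q', had'⟩, h2'⟩ := exists_ad M hA hm h'
    obtain ⟨c, hc⟩ := exists_isC (M := M.toSymK) had.sw.2.1
    obtain ⟨s, hs, π, hπ, h3, h4⟩ := exists_conj hA hm had.sw had'.sw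
    have h5 := hc.conj hA (hA.TH hs) hπ
    rw [h3, h4] at h5
    refine ⟨s, hs, ?_⟩
    rw [had.comm_eq hA hm hc, had'.comm_eq hA hm h5, cj_zpowers]
  · intro A h
    obtain ⟨⟨p, q, had⟩, h2⟩ := exists_ad M hA hm h
    obtain ⟨c, hc⟩ := exists_isC (M := M.toSymK) had.sw.2.1
    rw [had.ncard hA hm, had.comm_eq hA hm hc, card_zp hA hc had.sw.1]
    exact SymG.card_V M.toSymK
  · intro A h v hv
    obtain ⟨⟨p, q, had⟩, h2⟩ := exists_ad M hA hm h
    exact had.toR hA hm hv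
  · intro A h z hz hz1
    obtain ⟨⟨p, q, had⟩, h2⟩ := exists_ad M hA hm h
    have hE := E_zc (M := M.toSymK) hA hm hz hz1
    refine ⟨(had.mem_R hA hm).2 ⟨hA.zc hz, fun a b hab => ?_, fun a ha => ?_⟩, fun r hr h3 => ?_⟩
    · rw [hE, hE, if_neg (hab.nz hA hm), if_neg (hab.symm.nz hA hm)]
    · rw [hE, if_pos ha]
    · obtain ⟨a, b, c, hab, hc, rfl⟩ := (had.mem_pts hA hm).1 hr
      have h4 := ((had.mem_diff hA hm hab hc).1 h3).2
      rw [hE, if_neg (hab.nz hA hm)] at h4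
      exact one_ne_zero h4
  · intro A h z hz hz1 v hv hfull
    obtain ⟨⟨p, q, had⟩, h2⟩ := exists_ad M hA hm h
    have hE := E_zc (M := M.toSymK) hA hm hz hz1
    obtain ⟨hvV, h3, h4⟩ := (had.mem_R hA hm).1 hv
    refine ⟨1, one_mem _, ?_⟩
    rw [one_mul, inv_one, mul_one]
    refine inj M.toSymK hvV (hA.zc hz) fun a => ?_
    rw [hE]
    by_cases ha : a.2 = 0
    · rw [if_pos ha, h4 a ha]
    · rw [if_neg ha]
      obtain ⟨b, hab⟩ := exists_sw hA hm had.sw ha
      obtain ⟨c, hc⟩ := exists_isC (M := M.toSymK) hab.2.1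
      have h5 := hfull (zpowers c) ((had.mem_pts hA hm).2 ⟨a, b, c, hab, hc, rfl⟩)
      rw [had.mem_diff hA hm hab hc] at h5
      exact zmod2_ne.1 fun h0 => h5 ⟨hv, h0⟩
  · intro z hz hz1 D hD hzD
    exact SymG.le_of_full hA hD (hA.zc hz) hzD (E_zc (M := M.toSymK) hA hm hz hz1)
  · intro A h
    obtain ⟨⟨p, q, had⟩, h2⟩ := exists_ad M hA hm h
    exact (had.tp hA).exists_gen hA hm

end Cfsg.Agent.Omega.NOThreeL.NF.SymRP

namespace Cfsg.Agent.Omega.NOThreeL.NF

universe u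

/-- the symmetric case of `NF/Rp.lean` -/
theorem symRP : SymRP.{u} := fun _ _ _ hG _ _ hP hD _ _ _ _ hm M =>
  SymRP.rp_of_symKM hG hP.isLoc hD (by omega) M

end Cfsg.Agent.Omega.NOThreeL.NF

end

-- merged: Cfsg.Agent.Mrg.Omega.NOThreeL.MergeNF
section

/-!
# NO-3L merges with the NotFF frame (#16235, helper999; w.c. frame #16346, helper672)

`S` a Sylow 2-subgroup, `Y = ⟨P*(S)⟩ = YS S`, `V* = zl S Y`.

* `NFRoot S L` : `L ∈ L(S)`, `C_S(V_L) ≤ O₂(L)`, `V_L ≤ O₂(C_G(Z))`, `V_L` not FF, `⟨L, C_G(Z)⟩` nonlocal;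
* `nonLoc_YS` : `⟨P*(S), C_G(Z)⟩` is nonlocal (`Full S`);
* `YS_low` : `V* ≤ O₂(C_G(Z))` in NO-3L with (L) (`NullF`, helper528's (M));
* `nfRoot` : `NFRoot S Y` in NO-3L with (L), `V*` not FF;
* `NFRoot.root`, `NFRoot.alpha`, `NFRoot.lines`, `NFRoot.nonloc_M`, `NFRoot.exists_sit` : the w.c. frame for
  `L`: `M = N_G(W^) ≥ L`, `V = ⟨Z^M⟩`, `V ≤ O₂(C_G(F))` for `1 ≠ F ≤ V`, `⟨M, C_G(Z)⟩` nonlocal.
-/

set_option autoImplicit false

namespace Cfsg.Agent.Omega.NOThreeL.MergeNF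

open Subgroup Cfsg
open Cfsg.Agent.ZN hiding mem_zc le_normalizer_zl le_normalizer_o2
open Cfsg.Agent.ZN.ChoiceBase hiding mem_zc
open Cfsg.Agent.Omega.MinPar Cfsg.Agent.Omega.Frame Cfsg.Agent.Omega.FrameNOFF
open Cfsg.Agent.Omega.Node.NO3L
open Cfsg.Agent.Omega.NO3b.EZero (NotFF)
open Cfsg.Agent.Omega.NO3b (Wc.Root Wc.VL Wc.ML Wc.WH Wc.StmtOff)
open Cfsg.Agent.Omega.NOThreeL.Star (YS le_YS S_le_YS)
open Cfsg.Agent.Omega.NOThreeL.MutLine (NullF)
open Cfsg.Agent.MinSimple.VModule (mem_zc zc_le zc_sq zc_comm le_centralizer_zc zc_le_zl zl_le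
  le_normalizer_zl normalizer_le_normalizer_zc le_normalizer_o2 o2_isPGroup)

universe u

variable {G : Type u} [Group G]

/-- The root of the NotFF frame for an arbitrary `L ∈ L(S)`. -/
structure NFRoot (S L : Subgroup G) : Prop where
  loc : IsLoc S L
  cs : S ⊓ centralizer (zl S L : Set G) ≤ o2 L
  low : zl S L ≤ o2 (CZ S)
  nff : NotFF (zl S L)
  nonloc : NonLoc L (CZ S)

variable [Finite G] {S : Sylow 2 G}

/-- `⟨P*(S), C_G(Z)⟩` is nonlocal. -/
theorem nonLoc_YS (h : Ctx G) (hF : Full (S : Subgroup G)) :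
    NonLoc (YS (S : Subgroup G)) (CZ (S : Subgroup G)) := fun _ hU h1 h2 =>
  eq_bot_of_norm h S hF hU (fun _ hP => (le_YS hP).trans h1) h2

omit [Finite G] in
theorem inv_bot (S Z : Subgroup G) (F : Set (Subgroup G)) : NoFF.Main.Inv S Z ⊥ F := by
  refine ⟨fun n hn => ?_, fun n hn => ?_, fun n hn P hP => ?_⟩ <;> rw [mem_bot.1 hn, map_one, one_smul]
  exact hP

omit [Finite G] in
theorem X_bot (S : Subgroup G) : NoFF.Main.X ⊥ (PS S) = YS S := by
  rw [NoFF.Main.X, bot_sup_eq]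
  rfl

/-- `V* ≤ O₂(C_G(Z))` -/
theorem YS_low (hc : IsCharacteristicTwoType G) (D : Data (S : Subgroup G))
    (hL : NullF (S : Subgroup G) (PS (S : Subgroup G))) (hne : (PS (S : Subgroup G)).Nonempty) :
    zl (S : Subgroup G) (YS (S : Subgroup G)) ≤ o2 (CZ (S : Subgroup G)) := by
  have h1 := MutLine.A_le hc D le_rfl hL (inv_bot (S : Subgroup G) (zc (S : Subgroup G)) _) hne
  rw [← X_bot]
  exact h1

/-- **The merge.** -/
theorem nfRoot (h : Ctx G) (hF : Full (S : Subgroup G)) (D : Data (S : Subgroup G))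
    (hL : NullF (S : Subgroup G) (PS (S : Subgroup G)))
    (hnff : NotFF (zl (S : Subgroup G) (YS (S : Subgroup G)))) :
    NFRoot (S : Subgroup G) (YS (S : Subgroup G)) where
  loc := Star.isLoc h.char2 D.noff (S_le_YS h hF) (h.sylow_ne_bot S)
  cs := Star.cs_le_o2 h.char2 (S_le_YS h hF)
  low := YS_low h.char2 D hL (h.exists_isParS hF)
  nff := hnff
  nonloc := nonLoc_YS h hF

/-! ### The w.c. frame for `L` -/

theorem root_of_isLoc (hc : IsCharacteristicTwoType G) {L : Subgroup G} (hL : IsLoc (S : Subgroup G) L)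
    (hcs : (S : Subgroup G) ⊓ centralizer (zl (S : Subgroup G) L : Set G) ≤ o2 L)
    (hnff : NotFF (zl (S : Subgroup G) L)) : Wc.Root S L where
  le := hL.le
  comm := by
    have h1 := hL.zl_le S hc
    intro x hx
    rw [mem_centralizer_iff]
    intro y hy
    exact zc_comm _ _ (h1 hy) _ (h1 hx)
  sq := fun v hv => zc_sq _ _ (hL.zl_le S hc hv)
  nff := hnff
  cs := by
    have e : (S : Subgroup G) ⊓ centralizer (zl (S : Subgroup G) L : Set G) =
        o2 L ⊓ centralizer (zl (S : Subgroup G) L : Set G) :=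
      le_antisymm (le_inf hcs inf_le_right) (inf_le_inf_right _ (hL.o2_le S))
    rw [e]
    intro l hl
    rw [mem_normalizer_iff_cj, cj_inf, cj_centralizer, cj_eq_of_mem_normalizer (le_normalizer_o2 L hl),
      cj_eq_of_mem_normalizer (le_normalizer_zl (S : Subgroup G) L hl)]

namespace NFRoot

variable {L : Subgroup G} (r : NFRoot (S : Subgroup G) L)
include r

theorem root (hc : IsCharacteristicTwoType G) : Wc.Root S L := root_of_isLoc hc r.loc r.cs r.nff

/-- `⟨M, C_G(Z)⟩` is nonlocal. -/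
theorem nonloc_M (hc : IsCharacteristicTwoType G) :
    NonLoc (Wc.ML (S : Subgroup G) L) (CZ (S : Subgroup G)) := fun _ hU h1 h2 =>
  r.nonloc _ hU ((r.root hc).L_le.trans h1) h2

theorem alpha (hc : IsCharacteristicTwoType G) (hoff : Wc.StmtOff G) :
    NO3b.Union.Alpha S L (Wc.ML (S : Subgroup G) L) :=
  (r.root hc).alpha hc hoff r.low

/-- `V ≤ O₂(C_G(F))` for `1 ≠ F ≤ V` -/
theorem good (hc : IsCharacteristicTwoType G) (hoff : Wc.StmtOff G) {F : Subgroup G}
    (hF : F ≤ Wc.VL (S : Subgroup G) L) (hF1 : F ≠ ⊥) :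
    Wc.VL (S : Subgroup G) L ≤ o2 (centralizer (F : Set G)) :=
  (r.root hc).good hc hoff r.low hF hF1

theorem low_V (hc : IsCharacteristicTwoType G) (hoff : Wc.StmtOff G) (hne : zc (S : Subgroup G) ≠ ⊥) :
    Wc.VL (S : Subgroup G) L ≤ o2 (CZ (S : Subgroup G)) :=
  (r.root hc).low hc hoff r.low hne

/-- The frame of helper25's `NoEmp.lean`. -/
theorem lines (hc : IsCharacteristicTwoType G) (hoff : Wc.StmtOff G) (hne : zc (S : Subgroup G) ≠ ⊥) :
    NO3b.NoEmp.Lines S (Wc.WH (S : Subgroup G) L) (Wc.VL (S : Subgroup G) L) :=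
  (r.root hc).lines' hc hoff r.low hne

/-- `C_G(Z) ≰ N_G(V)` -/
theorem CZ_nle (hc : IsCharacteristicTwoType G) (hne : zc (S : Subgroup G) ≠ ⊥) :
    ¬ CZ (S : Subgroup G) ≤ normalizer (Wc.VL (S : Subgroup G) L : Set G) := by
  intro h1
  have h2 := r.nonloc_M hc _ (r.root hc).V_two (le_normalizer_zl _ _) h1
  exact hne (le_bot_iff.1 (h2 ▸ NO3b.Wc.Root.zc_le_V))

/-- A situation `F ≥ Z`, `X`, `V ∩ V^x = F` up to an element of `M`. -/
theorem exists_sit (hc : IsCharacteristicTwoType G) (hoff : Wc.StmtOff G) (hne : zc (S : Subgroup G) ≠ ⊥) :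
    ∃ m ∈ Wc.ML (S : Subgroup G) L, ∃ F X : Subgroup G, cj m (zc (S : Subgroup G)) ≤ F ∧
      NO3b.Union.Sit S L (Wc.ML (S : Subgroup G) L) F X :=
  (r.alpha hc hoff).exists_sit NO3b.Wc.Root.zc_le_V hne (r.CZ_nle hc hne)

end NFRoot

end Cfsg.Agent.Omega.NOThreeL.MergeNF

end

-- merged: Cfsg.Agent.Mrg.Omega.NOThreeL.NF.Final
section

section


/-!
# THEOREM NF (#17343, helper863), final form

* `natRP`, `rp` : the interface `RP S P` for every `P ∈ P*(S)` with an offender on `V_P`;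
* `notFF` : in NO-3L with `C_Z(P) = 1` for all `P ∈ P*(S)`, `V* = ⟨Z^{⟨P*(S)⟩}⟩` is not FF;
* `vf` : THEOREM VF (`Merge.VF`).
-/

set_option autoImplicit false

namespace Cfsg.Agent.Omega.NOThreeL.NF

open Subgroup Cfsg
open Cfsg.Agent.ZN
open Cfsg.Agent.Omega.MinPar Cfsg.Agent.Omega.Frame Cfsg.Agent.Omega.FrameNOFF
open Cfsg.Agent.Omega.NO3b.EZero (NotFF)
open Cfsg.Agent.Omega.FFThm (OffM)
open Cfsg.Agent.Omega.NOThreeL.Star (YS)
open Cfsg.Agent.Omega.NOThreeL.Basic (DataZ)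

universe u

theorem natRP : NatRP.{u} := by
  intro G _ _ _ S P hP hcv _ F _ _ _ k _ M
  exact rp_of_natKM hP.le hcv M

variable {G : Type u} [Group G] [Finite G] {S : Sylow 2 G}

theorem rp (h : Ctx G) (D : DataZ (S : Subgroup G)) {P : Subgroup G} (hP : IsParS (S : Subgroup G) P)
    (hoff : ∃ A : Subgroup G, A ≤ P ∧ OffM (zl (S : Subgroup G) P) A) : RP (S : Subgroup G) P :=
  rp_of natRP symRP h D hP hoff

/-- **THEOREM NF.** -/
theorem notFF (h : Ctx G) (hF : Full (S : Subgroup G)) (D : DataZ (S : Subgroup G)) :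
    NotFF (zl (S : Subgroup G) (YS (S : Subgroup G))) :=
  nf h hF D fun _ hP hoff => rp h D hP hoff

/-- **THEOREM VF.** -/
theorem vf : Merge.VF.{u} :=
  Merge.VF.of_notFF fun _ _ _ h _ hF D => notFF h hF D

end Cfsg.Agent.Omega.NOThreeL.NF

end

section


/-!
# The common socket of NO-3L and NO-3S.NotFF reduces to the local exit

`S` a Sylow 2-subgroup, `HypG S M` (helper597's `Merge.lean`: `M ∈ L(S)` generated by members of `P*(S)`,
`⟨M, C_G(Z)⟩` nonlocal, `V_M = ⟨Z^M⟩ ≤ O₂(C_G(Z))` not FF).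

* `HypG.notFF`, `HypG.cs_le`, `HypG.root`, `HypG.nfRoot` : `V_M` is not FF in the strong sense, `C_S(V_M) ≤ O₂(M)`,
  the w.c. frame for `M`;
* `nfRoot_of_null` : NO-3L with `C_Z(P) = 1` for all `P ∈ P*(S)` and (L) : `NFRoot S ⟨P*(S)⟩` (THEOREM NF);
* `LocG S M B` : the local exit (#17095, #17287, #17387): `B` admissible with `|V|` maximal, `V = ⟨Z^{N_G(B)}⟩`,
  and for all `F ≥ Z` maximal in `V` with `C_G(F) ≰ N_G(V)`, `T = C_S(F)` Sylow in `C_G(F)` and all `X` minimal over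
  `T` in `C_G(F)` with `X ≰ N_G(V)` the group `⟨N_G(B), X⟩` is local and some `A ≤ B`, `A ≰ O₂(X)` offends on
  `⟨V^X⟩`;
* `exists_locG` : `LocG` exists (K0, FPB, THEOREM OFF);
* `LocExit K` : the local exit as a socket; `notFFG_of : LocExit K → Merge.NotFFG K`.
-/

set_option autoImplicit false

namespace Cfsg.Agent.Omega.NOThreeL.HypGFrame

open Subgroup Cfsg
open Cfsg.Agent.ZN hiding mem_zc le_normalizer_zl le_normalizer_o2 le_o2
open Cfsg.Agent.ZN.ChoiceBase hiding mem_zc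
open Cfsg.Agent.Omega.MinPar Cfsg.Agent.Omega.Frame Cfsg.Agent.Omega.FrameNOFF
open Cfsg.Agent.Omega.Node.NO3L
open Cfsg.Agent.Omega.NO3b.EZero (NotFF Par cl)
open Cfsg.Agent.Omega.NO3b.Alpha (Fl)
open Cfsg.Agent.Omega.NO3b.Exit (Adm Fr VB)
open Cfsg.Agent.Omega.FFThm (OffM)
open Cfsg.Agent.Omega.NOThreeL.Star (YS le_YS S_le_YS zl_mono)
open Cfsg.Agent.Omega.NOThreeL.Basic (DataZ)
open Cfsg.Agent.Omega.NOThreeL.Merge (HypG NotFFG)
open Cfsg.Agent.Omega.NOThreeL.MergeNF (NFRoot root_of_isLoc nfRoot)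
open Cfsg.Agent.MinSimple.VModule (le_normalizer_zl le_normalizer_o2 o2_isPGroup le_o2 zl_le zc_le_zl)

universe u

section

variable {G : Type u} [Group G] [Finite G] {S : Sylow 2 G}

/-- `C_S(V_M)` is normal in `M` if `M` is generated by members of `P*(S)`. -/
theorem le_norm_cs (hc : IsCharacteristicTwoType G) {M : Subgroup G}
    (gen : M ≤ sSup {P : Subgroup G | IsParS (S : Subgroup G) P ∧ P ≤ M}) :
    M ≤ normalizer (((S : Subgroup G) ⊓ centralizer (zl (S : Subgroup G) M : Set G) : Subgroup G) : Set G) := by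
  refine gen.trans (sSup_le ?_)
  rintro P ⟨hP, hPM⟩
  have hVP : zl (S : Subgroup G) P ≤ zl (S : Subgroup G) M := zl_mono _ hPM
  have key : ∀ p ∈ P, ∀ x ∈ (S : Subgroup G) ⊓ centralizer (zl (S : Subgroup G) M : Set G),
      p * x * p⁻¹ ∈ (S : Subgroup G) ⊓ centralizer (zl (S : Subgroup G) M : Set G) := by
    intro p hp x hx
    refine ⟨?_, ?_⟩
    · have h1 : x ∈ o2 P := mem_o2_of_cent hc S hP hx.1 (centralizer_le hVP hx.2)
      exact hP.isLoc.o2_le S ((mem_normalizer_iff.1 (le_normalizer_o2 P hp) x).1 h1)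
    · refine mem_centralizer_iff.2 fun v hv => ?_
      have h2 := (mem_normalizer_iff''.1 (le_normalizer_zl (S : Subgroup G) M (hPM hp)) v).1 hv
      have h3 := mem_centralizer_iff.1 hx.2 _ h2
      have e1 : v * (p * x * p⁻¹) = p * ((p⁻¹ * v * p) * x) * p⁻¹ := by group
      have e2 : p * x * p⁻¹ * v = p * (x * (p⁻¹ * v * p)) * p⁻¹ := by group
      rw [e1, e2, h3]
  intro p hp
  rw [mem_normalizer_iff]
  intro x
  refine ⟨key p hp x, fun hx => ?_⟩
  have h1 := key p⁻¹ (P.inv_mem hp) _ hx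
  have e : p⁻¹ * (p * x * p⁻¹) * p⁻¹⁻¹ = x := by group
  rwa [e] at h1

namespace HypG

variable {M : Subgroup G} (h : HypG S M)
include h

theorem notFF : NotFF (zl (S : Subgroup G) M) := NO3b.Final.notFF_of h.loc.le h.nff

theorem cs_le : (S : Subgroup G) ⊓ centralizer (zl (S : Subgroup G) M : Set G) ≤ o2 M :=
  le_o2 (inf_le_left.trans h.loc.le) (S.isPGroup'.to_le inf_le_left) (le_norm_cs h.ctx.char2 h.gen)

theorem root : NO3b.Wc.Root S M := root_of_isLoc h.ctx.char2 h.loc (cs_le h) (notFF h)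

theorem nfRoot : NFRoot (S : Subgroup G) M := ⟨h.loc, cs_le h, h.lowM, notFF h, h.nonLoc⟩

end HypG

/-- NO-3L with `C_Z(P) = 1` for all `P ∈ P*(S)` and (L) is inside the frame. -/
theorem nfRoot_of_null (h : Ctx G) (hF : Full (S : Subgroup G)) (D : DataZ (S : Subgroup G))
    (hL : MutLine.NullF (S : Subgroup G) (PS (S : Subgroup G))) :
    NFRoot (S : Subgroup G) (YS (S : Subgroup G)) :=
  nfRoot h hF D.toData hL (NF.notFF h hF D)

/-- THEOREM VF and (L) give `HypG S ⟨P*(S)⟩`. -/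
theorem hypG_of_null (h : Ctx G) (hF : Full (S : Subgroup G)) (D : DataZ (S : Subgroup G))
    (hL : MutLine.NullF (S : Subgroup G) (PS (S : Subgroup G))) : HypG S (Merge.MZ (S : Subgroup G)) :=
  Merge.HypG.of_data h hF D.toData (MergeNF.YS_low h.char2 D.toData hL (h.exists_isParS hF))
    (NF.vf G h S hF D)

/-- **The local exit.** -/
structure LocG (S : Sylow 2 G) (M B : Subgroup G) : Prop where
  adm : Adm S M B
  max : ∀ B' : Subgroup G, Adm S M B' → Nat.card (VB (S : Subgroup G) B') ≤ Nat.card (VB (S : Subgroup G) B)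
  min : ∀ B' : Subgroup G, Adm S M B' → B' ≤ B → B' = B
  le : M ≤ normalizer (B : Set G)
  nz : ¬ centralizer (zc (S : Subgroup G) : Set G) ≤ normalizer (VB (S : Subgroup G) B : Set G)
  ex : ∃ F T X : Subgroup G, Fl S (VB (S : Subgroup G) B) F T ∧ zc (S : Subgroup G) ≤ F ∧
    Par (VB (S : Subgroup G) B) F T X
  loc : ∀ F T X : Subgroup G, Fl S (VB (S : Subgroup G) B) F T → zc (S : Subgroup G) ≤ F →
    Par (VB (S : Subgroup G) B) F T X →
      ∃ R : Subgroup G, R ≠ ⊥ ∧ IsPGroup 2 R ∧ normalizer (B : Set G) ⊔ X ≤ normalizer (R : Set G)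
  fr : ∀ F T X : Subgroup G, Fl S (VB (S : Subgroup G) B) F T → zc (S : Subgroup G) ≤ F →
    Par (VB (S : Subgroup G) B) F T X → Fr S B (normalizer (B : Set G) ⊔ X) X T
  off : ∀ F T X : Subgroup G, Fl S (VB (S : Subgroup G) B) F T → zc (S : Subgroup G) ≤ F →
    Par (VB (S : Subgroup G) B) F T X → ∃ A : Subgroup G, A ≤ B ∧ ¬ A ≤ o2 X ∧
      OffM (cl (VB (S : Subgroup G) B) X) A

/-- **The frame ends in the local exit.** -/
theorem exists_locG (hG : IsCharacteristicTwoType G) (hSne : (S : Subgroup G) ≠ ⊥) {M : Subgroup G}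
    (r : NFRoot (S : Subgroup G) M) : ∃ B, LocG S M B := by
  have hOff := NO3b.Final.stmtOff G
  have hZne : zc (S : Subgroup G) ≠ ⊥ := MinSimple.Basic.zc_ne_bot S.isPGroup' hSne
  have hroot := r.root hG
  obtain ⟨B, a, hmax⟩ := Set.exists_max_image {B : Subgroup G | Adm S M B}
    (fun B => Nat.card (VB (S : Subgroup G) B)) (Set.toFinite _)
    ⟨_, Adm.of_root hroot (r.low_V hG hOff hZne)⟩
  have hmin : ∀ B' : Subgroup G, Adm S M B' → B' ≤ B → B' = B := by
    intro B' a' hle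
    have h1 : normalizer (B : Set G) ≤ normalizer (B' : Set G) := by
      intro g hg
      rw [mem_normalizer_iff_cj]
      refine a'.wc.eq g ?_
      have h2 := cj_mono g hle
      rw [cj_eq_of_mem_normalizer hg] at h2
      exact h2.trans a.wc.le
    have h2 : VB (S : Subgroup G) B = VB (S : Subgroup G) B' :=
      eq_of_le_of_card_ge (zl_mono _ h1) (hmax B' a')
    rw [← a'.cs, ← a.cs, h2]
  have hLB := NO3b.Exit.L_le_norm hroot a.wc a.le
  have hnz : ¬ centralizer (zc (S : Subgroup G) : Set G) ≤ normalizer (VB (S : Subgroup G) B : Set G) := by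
    intro h1
    have h2 := r.nonloc _ (NO3b.NoEmp.pgroup_of_sq a.sq) (hLB.trans (le_normalizer_zl _ _)) h1
    exact hZne (le_bot_iff.1 (a.lines.ZV.trans h2.le))
  have hloc : ∀ F T X : Subgroup G, Fl S (VB (S : Subgroup G) B) F T → zc (S : Subgroup G) ≤ F →
      Par (VB (S : Subgroup G) B) F T X →
        ∃ R : Subgroup G, R ≠ ⊥ ∧ IsPGroup 2 R ∧ normalizer (B : Set G) ⊔ X ≤ normalizer (R : Set G) := by
    intro F T X f hZF p
    obtain ⟨R, h1, h2, h3, h4⟩ := NO3b.AlphaEnd.exists_loc f a.lines FFBr.aStmt FFBr.ffthm hG hZF p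
    rw [a.cs] at h3
    exact ⟨R, h1, h2, sup_le h3 h4⟩
  have hfr : ∀ F T X : Subgroup G, Fl S (VB (S : Subgroup G) B) F T → zc (S : Subgroup G) ≤ F →
      Par (VB (S : Subgroup G) B) F T X → Fr S B (normalizer (B : Set G) ⊔ X) X T := by
    intro F T X f hZF p
    obtain ⟨R, hR, hR2, h3⟩ := hloc F T X f hZF p
    have hQ := f.Q0_le
    rw [a.cs] at hQ
    exact
      { NB := le_sup_left
        XH := le_sup_right
        gen := le_rfl
        char2 := NO3b.Exit.char2_of_loc hG ((NO3b.Exit.wc_S_le a.wc).trans le_sup_left) hR2 hR h3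
        TS := f.T_le
        BT := hQ
        syl := f.sylX p
        mp := f.isMinPar a.lines p
        XZ := p.le.trans (centralizer_le hZF)
        nle := p.nle }
  obtain ⟨F, T, f, hZF⟩ := NO3b.Alpha.exists_fl_zc a.lines hnz
  obtain ⟨X, p⟩ := f.exists_par
  exact ⟨B, a, hmax, hmin, hLB, hnz, ⟨F, T, X, f, hZF, p⟩, hloc, hfr, fun F T X f hZF p =>
    (hfr F T X f hZF p).exists_off a hG hOff hSne hmin⟩

end

/-- **The local exit** (socket). -/
def LocExit (K : Cls.{u}) : Prop :=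
  ∀ (G : Type u) [Group G] [Finite G], K G → ∀ (S : Sylow 2 G) (M : Subgroup G), HypG S M →
    NFRoot (S : Subgroup G) M → ∀ B : Subgroup G, LocG S M B → IsKnownSimple' G

/-- **The common socket from the local exit.** -/
theorem notFFG_of {K : Cls.{u}} (h : LocExit K) : NotFFG K := by
  intro G _ _ hK S M H
  obtain ⟨B, hB⟩ := exists_locG H.ctx.char2 (H.ctx.sylow_ne_bot S) (HypG.nfRoot H)
  exact h G hK S M H (HypG.nfRoot H) B hB

/-- NO-3S.NotFF from the local exit. -/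
theorem notFF_of {K : Cls.{u}} (h : LocExit K) : NO3S.NotFF K := Merge.notFF_of (notFFG_of h)

end Cfsg.Agent.Omega.NOThreeL.HypGFrame

end

end
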